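/-
P29: class sizes of primary elements (S4131, S4132).  Interface, see plans/P29.md.
-/
import Cfsg.Agent.P6.Sol
import Cfsg.Agent.P4.Class
import Cfsg.Agent.P4.Plane2
import Cfsg.Agent.P1.ZStar
import Cfsg.Agent.H6.Cyc7

set_option autoImplicit false
set_option linter.unusedSectionVars false

namespace Cfsg.Agent.P29

open Subgroup Cfsg Cfsg.Agent Cfsg.Agent.FT Cfsg.Agent.P6

universe u

section
variable {B : Type u} [Group B]

/-- odd primary elements -/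
def OP (y : B) : Prop := ∃ r k : ℕ, r.Prime ∧ r ≠ 2 ∧ orderOf y = r ^ k

/-- The centralizer in `L` of every involution of `B` has a normal 2-complement. -/
def NC (L : Subgroup B) : Prop := ∀ u : B, Inv u → HasNPC 2 (L ⊓ 𝐂[u])

/-- Every odd primary element of `L` is centralized by an involution of `B`. -/
def Ev (L : Subgroup B) : Prop := ∀ y ∈ L, OP y → ∃ u : B, Inv u ∧ Commute u y

def E8 (H : Subgroup B) : Prop := ∃ E ≤ H, IsElem 2 3 E

/-- the odd elements of `C_L(u)` -/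
abbrev th (L : Subgroup B) (u : B) : Subgroup B := Od (L ⊓ 𝐂[u])
end

def HasSE (X : Type u) [Group X] : Prop := ∃ M : Subgroup X, M ≠ ⊤ ∧ SE X (X ⧸ M)

def O1 (X : Type u) [Group X] : Prop := ∀ N : Subgroup X, N.Normal → Odd 𝐨(N) → N = ⊥

def L34 (X : Type u) [Group X] : Prop :=
  (∃ x : X, orderOf x = 7 ∧ ¬ IsConj x x⁻¹) ∧
  ∀ D : Subgroup X, Odd 𝐨(D) → ¬ ∀ a b : X, Inv a → Inv b → ∃ d ∈ D, d * a * d⁻¹ = b

def IsPSL (X : Type u) [Group X] : Prop :=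
  ∃ (F : Type) (_ : Field F) (_ : Fintype F), Odd (Fintype.card F) ∧
    Nonempty (X ≃* Matrix.ProjectiveSpecialLinearGroup (Fin 2) F)

def Dih (X : Type u) [Group X] : Prop :=
  ∃ (S : Subgroup X) (x z s : X), P4.Max2 S x z s ∧ s * x * s = x⁻¹

/-- Gorenstein-Walter (package P15). -/
def GWStmt : Prop := ∀ (X : Type u) [Group X] [Finite X], IsSimpleGroup X → ¬ IsMulCommutative X →
  8 ∣ Nat.card X → Dih X → IsPSL X ∨ Nat.card X = 2520

def TTStmt : Prop := ∀ (X : Type u) [Group X] [Finite X], IsSimpleGroup X → ¬ IsMulCommutative X →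
  E8 (⊤ : Subgroup X) → ∀ t : X, Inv t → E8 𝐂[t]

def R3Stmt : Prop := ∀ (X : Type u) [Group X] [Finite X], NC (⊤ : Subgroup X) → O1 X →
  E8 (⊤ : Subgroup X) → (∀ t : X, Inv t → E8 𝐂[t]) → P4.CIT X ∨ HasSE X

def CitStmt : Prop := ∀ (X : Type u) [Group X] [Finite X], P4.CIT X → pCore 2 X = ⊥ →
  ¬ Group.IsSolvable X → E8 (⊤ : Subgroup X) → HasSE X ∨ L34 X

def SE3Stmt : Prop := ∀ (X : Type u) [Group X] [Finite X], NC (⊤ : Subgroup X) → HasSE X →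
  E8 (⊤ : Subgroup X) → ∀ P : Subgroup X, IsPGroup 2 P → ∀ a ∈ P, ∀ b ∈ P, Inv a → Inv b →
  Commute a b

/-- Sylow 2-subgroups of type `U₃(4)`. -/
def LyStmt : Prop := ∀ (X : Type u) [Group X] [Finite X], IsSimpleGroup X → ¬ IsMulCommutative X →
  NC (⊤ : Subgroup X) → ¬ E8 (⊤ : Subgroup X) → ∀ S : Subgroup X, IsSyl 2 S ⊤ →
  (∀ t ∈ S, Inv t → t ∈ 𝐂(S)) → IsMulCommutative S

def Rk2Stmt : Prop := ∀ (X : Type u) [Group X] [Finite X], IsSimpleGroup X →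
  ¬ IsMulCommutative X → NC (⊤ : Subgroup X) → ¬ E8 (⊤ : Subgroup X) → ¬ 8 ∣ Nat.card X ∨ Dih X

def EndStmt : Prop := ∀ (B : Type u) [Group B] [Finite B] (L : Subgroup B), L.Normal →
  IsSimpleGroup L → ¬ IsMulCommutative L → NC L → Ev L →
  IsPSL L ∨ (Nat.card L = 2520 ∧ Dih L) → False

def CoreStmt : Prop := ∀ (B : Type u) [Group B] [Finite B] (L : Subgroup B), L.Normal →
  IsSimpleGroup L → ¬ IsMulCommutative L → NC L → Ev L → False

/-- The simple case of S4131. -/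
def SimStmt : Prop := ∀ (G : Type u) [Group G] [Finite G], IsSimpleGroup G → ¬ IsMulCommutative G →
  ¬ ∀ y : G, OP y → ¬ 4 ∣ 𝐂[y].index

variable {B : Type u} [Group B] [Finite B] {L : Subgroup B}

theorem OP.odd {y : B} (h : OP y) : Odd (orderOf y) := by
  obtain ⟨r, k, hr, r2, e⟩ := h
  rw [e]; exact (hr.odd_of_ne_two r2).pow

theorem odd_th (L : Subgroup B) (u : B) : Odd 𝐨(th L u) := odd_Od _

theorem th_le (L : Subgroup B) (u : B) : th L u ≤ L ⊓ 𝐂[u] := (Od_normal _).1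

theorem le_norm_th (L : Subgroup B) (u : B) : L ⊓ 𝐂[u] ≤ 𝐍(th L u) := (Od_normal _).2

theorem norm_th [L.Normal] (u : B) : 𝐂[u] ≤ 𝐍(th L u) :=
  (H1.le_normalizer_inf le_normalizer_of_normal le_normalizer).trans (norm_le_norm_Od _)

theorem NC.mem_th (h : NC L) {u x : B} (hu : Inv u) :
    x ∈ th L u ↔ x ∈ L ∧ Commute u x ∧ Odd (orderOf x) :=
  ⟨fun hx => ⟨(th_le L u hx).1, mem_cent1.1 (th_le L u hx).2, odd_orderOf_of_mem (odd_th L u) hx⟩,
    fun hx => mem_Od_of_npc (h u hu) ⟨hx.1, mem_cent1.2 hx.2.1⟩ hx.2.2⟩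

theorem NC.mono (h : NC L) {K : Subgroup B} (hK : K ≤ L) : NC K := fun u hu =>
  (h u hu).of_le Nat.prime_two (inf_le_inf_right _ hK)

/-- `C_L(u) = θ(u) R` -/
theorem NC.dec (h : NC L) {u : B} (hu : Inv u) {R : Subgroup B} (hR : IsSyl 2 R (L ⊓ 𝐂[u])) {g : B}
    (hg : g ∈ L ⊓ 𝐂[u]) : ∃ o ∈ th L u, ∃ r ∈ R, g = o * r := by
  have := (h u hu).sdProd Nat.prime_two hR
  rw [← this.sup, sup_comm] at hg
  obtain ⟨o, ho, r, hr, e⟩ := (H1.mem_sup_iff_of_le_normalizer' this.norm).1 hg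
  exact ⟨o, ho, r, hr, e.symm⟩

/-- no fusion in `C_L(u)` -/
theorem NC.fus (h : NC L) {u : B} (hu : Inv u) {R : Subgroup B} (hR : IsSyl 2 R (L ⊓ 𝐂[u]))
    {g a : B} (hg : g ∈ L ⊓ 𝐂[u]) (ha : a ∈ R) (hb : g * a * g⁻¹ ∈ R) :
    ∃ r ∈ R, g * a * g⁻¹ = r * a * r⁻¹ := by
  obtain ⟨o, ho, r, hr, rfl⟩ := h.dec hu hR hg
  refine ⟨r, hr, ?_⟩
  have h1 : r * a * r⁻¹ ∈ R := mul_mem (mul_mem hr ha) (inv_mem hr)
  have h2 : o * r * a * (o * r)⁻¹ * (r * a * r⁻¹)⁻¹ ∈ th L u ⊓ R := by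
    refine ⟨?_, R.mul_mem hb (R.inv_mem h1)⟩
    have : o * r * a * (o * r)⁻¹ * (r * a * r⁻¹)⁻¹ =
      o * ((r * a * r⁻¹) * o⁻¹ * (r * a * r⁻¹)⁻¹) := by group
    rw [this]
    exact mul_mem ho (P4.conj_mem (le_norm_th L u (hR.le h1)) (inv_mem ho))
  exact mul_inv_eq_one.1 (P4.eq_one_of_odd_of_mem hR.pgrp
    (odd_orderOf_of_mem (odd_th L u) h2.1) h2.2)

theorem NC.comap {X : Type u} [Group X] [Finite X] (h : NC L) {f : X →* B}
    (hf : Function.Injective f) : NC (L.comap f) := fun u hu => by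
  rw [← hasNPC_map_iff hf Nat.prime_two]
  refine (h (f u) ⟨fun e => hu.ne (hf (by rw [e, map_one])),
    by rw [← map_mul, hu.sq, map_one]⟩).of_le Nat.prime_two ?_
  rintro _ ⟨x, hx, rfl⟩
  exact ⟨hx.1, mem_cent1.2 ((show Commute u x from mem_cent1.1 hx.2).map f)⟩

theorem NC.top (h : NC L) {K : Subgroup B} (hK : K ≤ L) : NC (⊤ : Subgroup K) :=
  (h.comap K.subtype_injective).mono fun x _ => hK x.2

end Cfsg.Agent.P29
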