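/-
P29: Sylow 2-subgroups of type `U₃(4)` with 2-nilpotent involution centralizers; local part.
-/
import Cfsg.Agent.P29.Defs
import Cfsg.Agent.P18.U
import Cfsg.Agent.P7.R2

set_option autoImplicit false
set_option linter.unusedSectionVars false
set_option linter.style.haveILetI false

namespace Cfsg.Agent.P29

open Subgroup Cfsg Cfsg.Agent Cfsg.Agent.FT Cfsg.Agent.P6
open Cfsg.Agent.P18.U (US F4)
open Cfsg.Agent.P7 (cjm sq_cj)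
open scoped commutatorElement

universe u

variable {G : Type u} [Group G] [Finite G]

structure LH (S A : Subgroup G) : Prop extends US S A where
  nc : NC (⊤ : Subgroup G)
  tri : ∃ ρ ∈ 𝐍(S), ρ ∉ 𝐂(A)

namespace LH

variable {S A : Subgroup G} (h : LH S A)
include h

theorem sq_ne {u : G} (hu : u ∈ S) (nu : u ∉ A) : u * u ≠ 1 := fun e => nu ((h.inv u hu).1 e)

theorem npc {t : G} (ht : t ∈ A) (t1 : t ≠ 1) : HasNPC 2 𝐂[t] := by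
  simpa only [top_inf_eq] using h.nc t ⟨t1, h.sqA ht⟩

theorem fus {t g x : G} (ht : t ∈ A) (t1 : t ≠ 1) (hg : g ∈ 𝐂[t]) (hx : x ∈ S)
    (hb : g * x * g⁻¹ ∈ S) : ∃ r ∈ S, g * x * g⁻¹ = r * x * r⁻¹ :=
  h.nc.fus ⟨t1, h.sqA ht⟩ (h.sylX (le_inf le_top (h.le_cent1 ht))) ⟨mem_top g, hg⟩ hx hb

theorem exA {t s : G} (ht : t ∈ A) (t1 : t ≠ 1) (hs : s ∈ A) (s1 : s ≠ 1) :
    ∃ g ∈ 𝐍(S), g * t * g⁻¹ = s := by
  obtain ⟨ρ, h1, h2⟩ := h.tri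
  obtain ⟨g, hg, e⟩ := h.f4.exists_conj (h.norm_le h1) h2 ht t1 hs s1
  exact ⟨g, zpowers_le.2 h1 hg, e⟩

theorem fusN {u v g : G} (hu : u ∈ S) (nu : u ∉ A) (hv : v ∈ S) (e : g * v * g⁻¹ = u) :
    ∃ n ∈ 𝐍(S), n * v * n⁻¹ = u := by
  have u1 := h.sq_ne hu nu
  obtain ⟨k, hk, ek⟩ := h.exA (h.sq v hv) (fun e' => u1 (by rw [← e, conj_mul, e']; simp))
    (h.sq u hu) u1
  have e1 : g * k⁻¹ * (k * v * k⁻¹) * (g * k⁻¹)⁻¹ = u := by rw [← e]; group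
  obtain ⟨r, hr, er⟩ := h.fus (g := g * k⁻¹) (h.sq u hu) u1 (mem_cent1_iff_conj.2 (by
    calc _ = g * k⁻¹ * (k * (v * v) * k⁻¹) * (g * k⁻¹)⁻¹ := by rw [ek]
      _ = g * (v * v) * g⁻¹ := by group
      _ = u * u := by rw [← conj_mul, e])) (cjm hk hv) (e1 ▸ hu)
  exact ⟨r * k, mul_mem (le_normalizer hr) hk, by rw [← e1, er]; group⟩

theorem cu_le {u : G} : 𝐂[u] ≤ 𝐂[u * u] := fun _ hx => mem_cent1_iff_commute.2
  ((mem_cent1_iff_commute.1 hx).mul_left (mem_cent1_iff_commute.1 hx))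

theorem index16 {u : G} (hu : u ∈ S) (nu : u ∉ A) : (Od 𝐂[u]).relIndex 𝐂[u] = 16 := by
  obtain ⟨R, hR, le⟩ := exists_isSyl_ge Nat.prime_two (h.two.to_le (inf_le_right (a := 𝐂[u])))
    inf_le_left
  rw [(((h.npc (h.sq u hu) (h.sq_ne hu nu)).of_le Nat.prime_two h.cu_le).sdProd
    Nat.prime_two hR).relIndex_left]
  refine le_antisymm ?_ (h.card_cent hu nu ▸ card_le_of_le le)
  obtain ⟨g, -, hg⟩ := h.syl.exists_conj_le Nat.prime_two hR.pgrp le_top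
  have m : g * u * g⁻¹ ∈ S := hg (mem_conj'.2 ⟨u, le ⟨self_mem_cent1 u, hu⟩, rfl⟩)
  rw [← h.card_cent m fun k => h.sq_ne hu nu (by simpa [conj_mul] using h.sqA k), ← card_conj R g]
  exact card_le_of_le (le_inf (cent1_conj u g ▸ conj_mono hR.le g) hg)

theorem index64 {t : G} (ht : t ∈ A) (t1 : t ≠ 1) : (Od 𝐂[t]).relIndex 𝐂[t] = 64 :=
  h.card ▸ ((h.npc ht t1).sdProd Nat.prime_two (h.sylX (h.le_cent1 ht))).relIndex_left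

theorem mem_cent {g t : G} (hg : g ∈ 𝐍(S)) (ht : t ∈ A) (t1 : t ≠ 1) (c : g ∈ 𝐂[t]) : g ∈ 𝐂(A) :=
  h.f4.mem_cent_of_commute (h.norm_le hg) ht t1 (mem_cent1_iff_commute.1 c).symm

theorem act {d x : G} (hd : d ∈ 𝐍(S) ⊓ 𝐂(A)) (hx : x ∈ S) : ∃ r ∈ S, d * x * d⁻¹ = r * x * r⁻¹ := by
  obtain ⟨t, ht, t1, -⟩ := h.f4.exists_ne 1
  exact h.fus ht t1 (cent_le_cent1 ht hd.2) hx (cjm hd.1 hx)

theorem three : 𝐂(A).relIndex 𝐍(S) = 3 := by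
  obtain ⟨t, ht, t1, -⟩ := h.f4.exists_ne 1
  have e : {c | ∃ y ∈ 𝐍(S), y * t * y⁻¹ = c} = (A : Set G) \ {1} := Set.ext fun c =>
    ⟨by rintro ⟨y, hy, rfl⟩; exact ⟨F4.conj_mem (h.norm_le hy) ht, by simpa using t1⟩,
      fun k => h.exA ht t1 k.1 k.2⟩
  have e2 := Set.ncard_diff_singleton_add_one (s := (A : Set G)) (one_mem _)
  rw [← e, ncard_class, show (A : Set G).ncard = 4 from h.cardA, ← inf_relIndex_left] at e2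
  rw [← inf_relIndex_left, le_antisymm (inf_le_inf_left _ (cent_le_cent1 ht))
    (fun g hg => ⟨hg.1, h.mem_cent hg.1 ht t1 hg.2⟩ : 𝐍(S) ⊓ 𝐂[t] ≤ 𝐍(S) ⊓ 𝐂(A))]
  omega

theorem card_D {u : G} (hu : u ∈ S) (nu : u ∉ A) :
    𝐨((𝐍(S) ⊓ 𝐂(A) : Subgroup G)) * 16 = 𝐨(S) * 𝐨((𝐂[u] ⊓ 𝐍(S) : Subgroup G)) := by
  have e : {c | ∃ y ∈ 𝐍(S) ⊓ 𝐂(A), y * u * y⁻¹ = c} = {c | ∃ y ∈ S, y * u * y⁻¹ = c} :=
    Set.ext fun c => ⟨by rintro ⟨y, hy, rfl⟩; exact (h.act hy hu).imp fun r hr => ⟨hr.1, hr.2.symm⟩,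
      fun ⟨y, hy, e⟩ => ⟨y, ⟨le_normalizer hy, h.cen hy⟩, e⟩⟩
  have e2 := congrArg Set.ncard e
  rw [ncard_class, ncard_class] at e2
  rw [← H1.card_inf_mul_relIndex 𝐂[u] S, ← H1.card_inf_mul_relIndex 𝐂[u] (𝐍(S) ⊓ 𝐂(A)), e2,
    h.card_cent hu nu, le_antisymm (inf_le_inf_left _ inf_le_left) (fun g hg => ⟨hg.1, hg.2,
      h.mem_cent hg.2 (h.sq u hu) (h.sq_ne hu nu) (h.cu_le hg.1)⟩ :
      𝐂[u] ⊓ 𝐍(S) ≤ 𝐂[u] ⊓ (𝐍(S) ⊓ 𝐂(A)))]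
  ring

theorem der : ⁅S, S⁆ ≤ A := commutator_le.2 fun _ hx _ hy => h.comm_mem hx hy

theorem nA : A ⊲ S := ⟨h.le, le_normalizer.trans h.norm_le⟩

theorem lin {μ : G → ℂ} (hμ : μ ∈ irrKer S A) : IsLin S μ := isLin_of_mem_irrKer h.der hμ

theorem ker {μ : G → ℂ} (hμ : μ ∈ irrKer S A) {a : G} (ha : a ∈ A) : μ a = 1 :=
  (h.lin hμ).mem_cfKer_iff.1 ((mem_irrKer.1 hμ).2 ha)

theorem inertia_eq {μ : G → ℂ} (hμ : μ ∈ irrKer S A) (h1 : μ ≠ cf1 S) :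
    𝐍(S) ⊓ inertia μ = 𝐍(S) ⊓ 𝐂(A) := by
  have ll := h.lin hμ
  refine le_antisymm (fun g hg => ?_) fun g hg => ?_
  · refine ⟨hg.1, of_not_not fun hn => ?_⟩
    refine h1 ((irr_eq_cf1_iff (mem_irrKer.1 hμ).1).2 fun x hx => ll.mem_cfKer_iff.2 ?_)
    have hi : ∀ y, μ (g * y * g⁻¹) = μ y := fun y => by
      rw [← cfConj_apply_conj g μ y, mem_inertia.1 hg.2]
    obtain ⟨r, hr, er⟩ := h.act (d := g ^ 3) ⟨pow_mem hg.1 3, h.f4.cube (h.norm_le hg.1)⟩ hx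
    have m1 := cjm hg.1 hx
    have m2 := cjm hg.1 m1
    have my := mul_mem (mul_mem hx m1) m2
    have e : μ (x * (g * x * g⁻¹) * (g * (g * x * g⁻¹) * g⁻¹)) = μ x := by
      rw [ll.2.2 _ (mul_mem hx m1) _ m2, ll.2.2 _ hx _ m1, hi (_ * _), hi x, ← ll.2.2 _ hx _ hx,
        h.ker hμ (h.sq x hx), one_mul]
    have e1 : g * (x * (g * x * g⁻¹) * (g * (g * x * g⁻¹) * g⁻¹)) * g⁻¹ =
        x⁻¹ * (x * (g * x * g⁻¹) * (g * (g * x * g⁻¹) * g⁻¹)) * (r * x * r⁻¹) := by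
      rw [← er, pow_succ, pow_two]; group
    generalize x * (g * x * g⁻¹) * (g * (g * x * g⁻¹) * g⁻¹) = y at my e e1
    rw [← e]
    refine h.ker hμ (of_not_not fun ny => hn (h.mem_cent hg.1 (h.sq y my) (h.sq_ne my ny)
      (mem_cent1_iff_conj.2 ?_)))
    have ma := mul_mem (h.comm_mem (inv_mem my) (inv_mem hx)) (h.comm_mem (inv_mem hx) hr)
    have e2 : g * y * g⁻¹ = y * (⁅y⁻¹, x⁻¹⁆ * ⁅x⁻¹, r⁆) := by
      rw [e1, commutatorElement_def, commutatorElement_def]; group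
    generalize ⁅y⁻¹, x⁻¹⁆ * ⁅x⁻¹, r⁆ = a at ma e2
    rw [← conj_mul, e2, mul_assoc, ← mul_assoc a, (h.commute ma my).eq, mul_assoc, h.sqA ma,
      mul_one]
  · refine ⟨hg.1, mem_inertia.2 (funext fun x => ?_)⟩
    by_cases hx : x ∈ S
    · obtain ⟨r, hr, e⟩ := h.act (inv_mem hg) hx
      rw [inv_inv] at e
      rw [cfConj_apply, e, (mem_CF.1 ll.mem_CF).2 r hr]
    · rw [ll.1 x hx, cfConj_apply, ll.1 _ fun k => hx (by simpa [mul_assoc] using cjm hg.1 k)]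

end LH

theorem ly_num {α β γ a b c : ℤ} (a1 : 64 ∣ a + 3 * α - 4) (a2 : 16 ∣ a - α) (a3 : a ≠ 1)
    (b1 : 64 ∣ b + 3 * β - 4) (b2 : 16 ∣ b - β) (b3 : b ≠ 1) (c0 : c ≠ 0)
    (h1 : 1 + (α + β + γ) = 0) (h2 : 1 + (a + b + c) = 0) (h3 : α ^ 2 + β ^ 2 + γ ^ 2 ≤ 63)
    (h : (1 : ℂ) + ((α : ℂ) ^ 2 * (a : ℂ)⁻¹ + (β : ℂ) ^ 2 * (b : ℂ)⁻¹ +
      (γ : ℂ) ^ 2 * (c : ℂ)⁻¹) = 0) : False := by
  have a0 : (a : ℂ) ≠ 0 := Int.cast_ne_zero.2 (by omega)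
  have b0 : (b : ℂ) ≠ 0 := Int.cast_ne_zero.2 (by omega)
  have c0' : (c : ℂ) ≠ 0 := Int.cast_ne_zero.2 c0
  have e : a * b * c + α ^ 2 * b * c + β ^ 2 * a * c + γ ^ 2 * a * b = 0 :=
    Int.cast_injective (α := ℂ) (by
      push_cast
      field_simp at h
      linear_combination h)
  obtain ⟨i, hi⟩ := a1
  obtain ⟨j, hj⟩ := b1
  obtain rfl : γ = -(1 + α + β) := by omega
  obtain rfl : c = -(1 + a + b) := by omega
  have k1 : α = -7 ∨ α = -3 ∨ α = 1 ∨ α = 5 := by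
    have : -8 < α ∧ α < 8 := by constructor <;> nlinarith [sq_nonneg β, sq_nonneg (-(1 + α + β))]
    omega
  have k2 : β = -7 ∨ β = -3 ∨ β = 1 ∨ β = 5 := by
    have : -8 < β ∧ β < 8 := by constructor <;> nlinarith [sq_nonneg α, sq_nonneg (-(1 + α + β))]
    omega
  by_cases k : α = 1 ∧ β = 1
  · obtain ⟨rfl, rfl⟩ := k
    refine P7.R2.num (n := 64) (c := -(1 + a + b)) (by norm_num) ⟨i, by omega⟩ ⟨j, by omega⟩ a3 b3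
      h2 ?_
    rw [← h]
    norm_num
  obtain rfl : a = 4 - 3 * α + 64 * i := by omega
  obtain rfl : b = 4 - 3 * β + 64 * j := by omega
  clear h a0 b0 c0' c0 h1 h2 hi hj a2 b2 a3 b3
  rcases k1 with rfl | rfl | rfl | rfl <;> rcases k2 with rfl | rfl | rfl | rfl <;>
    first
      | (norm_num at h3; done)
      | exact k ⟨rfl, rfl⟩
      | (ring_nf at e; omega)

end Cfsg.Agent.P29
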