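/-
P29: Sylow 2-subgroups of type `U₃(4)` with 2-nilpotent involution centralizers; characters.
-/
import Cfsg.Agent.P29.LyA

set_option autoImplicit false
set_option linter.unusedSectionVars false
set_option linter.style.haveILetI false

namespace Cfsg.Agent.P29

open Subgroup Cfsg Cfsg.Agent Cfsg.Agent.FT Cfsg.Agent.P6 Cfsg.Agent.P1
open Cfsg.Agent.P18.U (US F4)
open Cfsg.Agent.P7 (cjm sq_cj)
open Cfsg.Agent.H7.PCl (mult ip_eq_mult)
open scoped ComplexConjugate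

universe u

variable {G : Type u} [Group G] [Finite G]

namespace LH

variable {S A : Subgroup G} (h : LH S A)
include h

theorem pow64 {x : G} (hx : x ∈ S) : x ^ 2 ^ 6 = 1 :=
  orderOf_dvd_iff_pow_eq_one.1 ((show 𝐨(S) = 2 ^ 6 from h.card) ▸ S.orderOf_dvd_natCard hx)

theorem cop (X : Subgroup G) : (𝐨(Od X)).Coprime (2 ^ 6) :=
  (Nat.coprime_two_right.2 (odd_Od X)).pow_right 6

open Classical in
theorem card_mul_K {x : G} (hx : x ∈ S) (nx : x ∉ A) (y : G) :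
    (𝐨(Od 𝐂[x]) : ℂ) * ∑ χ ∈ B0 2 ⊤, χ x * conj (χ y) =
      ∑ m ∈ fs (Od 𝐂[x] : Set G), if ∃ g, g * y * g⁻¹ = m * x then (𝐨(𝐂[y]) : ℂ) else 0 := by
  have e0 : ∀ χ ∈ Irr (⊤ : Subgroup G), ∑ m ∈ fs (Od 𝐂[x] : Set G), χ (m * x) =
      if χ ∈ B0 2 ⊤ then 𝐨(Od 𝐂[x]) * χ x else 0 := fun χ hχ =>
    H7.Two.sum_coset_B0 Nat.prime_two (h.pow64 hx) (Od_normal _)
      (Nat.coprime_two_right.2 (odd_Od _)) (k := 4) (h.index16 hx nx) hχ
  have e1 : (𝐨(Od 𝐂[x]) : ℂ) * ∑ χ ∈ B0 2 ⊤, χ x * conj (χ y) =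
      ∑ χ ∈ Irr ⊤, (∑ m ∈ fs (Od 𝐂[x] : Set G), χ (m * x)) * conj (χ y) := by
    rw [← Finset.sum_subset (B0_subset 2 ⊤) fun χ hχ h => by rw [e0 χ hχ, if_neg h, zero_mul],
      Finset.mul_sum]
    exact Finset.sum_congr rfl fun χ hχ => by rw [e0 χ (B0_subset _ _ hχ), if_pos hχ, mul_assoc]
  simp only [e1, Finset.sum_mul]
  rw [Finset.sum_comm]
  refine Finset.sum_congr rfl fun m _ => ?_
  rw [sum_irr_mul_conj (mem_top _) (mem_top _), top_inf_eq]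
  simp only [mem_top, true_and]

theorem K_real {x : G} (hx : x ∈ S) (nx : x ∉ A) {y s : G} (ss : s * s = 1)
    (hs : s * y * s⁻¹ = y⁻¹) : ∑ χ ∈ B0 2 ⊤, χ x * conj (χ y) = 0 := by
  refine (mul_eq_zero.1 ((h.card_mul_K hx nx y).trans (Finset.sum_eq_zero fun m hm =>
    if_neg ?_))).resolve_left (card_ne_zero_C _)
  rintro ⟨g, hg⟩
  have hm' : m ∈ Od 𝐂[x] := mem_fs.1 hm
  have hc : Commute m x := (mem_cent1.1 ((Od_normal _).1 hm')).symm
  obtain ⟨k, hk⟩ : x ∈ zpowers (m * x) := H8.mem_of_pow_mem_of_coprime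
    ((h.cop 𝐂[x]).symm.coprime_dvd_left (orderOf_dvd_of_pow_eq_one (h.pow64 hx))) (by
      have := npow_mem_zpowers (m * x) 𝐨(Od 𝐂[x])
      rwa [hc.mul_pow, orderOf_dvd_iff_pow_eq_one.1 ((Od 𝐂[x]).orderOf_dvd_natCard hm'),
        one_mul] at this)
  have h3 : g * s * g⁻¹ * x * (g * s * g⁻¹)⁻¹ = x⁻¹ := by
    have e : g * s * g⁻¹ * (m * x) * (g * s * g⁻¹)⁻¹ = (m * x)⁻¹ := by
      rw [← hg, show g * s * g⁻¹ * (g * y * g⁻¹) * (g * s * g⁻¹)⁻¹ = g * (s * y * s⁻¹) * g⁻¹ by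
        group, hs]
      group
    have hk' : (m * x) ^ k = x := hk
    rw [← hk', ← conj_zpow, e, inv_zpow, hk']
  generalize hr : g * s * g⁻¹ = r at h3
  have rr : r * r = 1 := hr ▸ sq_cj ss g
  have h5 := h.commute_two ((P7.two_zpowers rr).to_sup_of_normal_right'
    (h.two.to_le (zpowers_le.2 hx)) (zpowers_le.2 (conj_eq_self_iff.1 (by
      rw [← zpowers_conj, h3, zpowers_inv])))) (mem_sup_left (mem_zpowers r)) rr
      (mem_sup_right (mem_zpowers x))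
  rw [h5.eq, mul_inv_cancel_right] at h3
  exact h.sq_ne hx nx (by nth_rewrite 1 [h3]; rw [inv_mul_cancel])

open Classical in
theorem K_S {u v : G} (hu : u ∈ S) (nu : u ∉ A) (hv : v ∈ S) :
    (𝐨((𝐍(S) ⊓ 𝐂(A) : Subgroup G)) : ℂ) * ∑ χ ∈ B0 2 ⊤, χ u * conj (χ v) =
      𝐨(S) * ∑ g ∈ fs (𝐍(S) : Set G), if g * v * g⁻¹ = u then (1 : ℂ) else 0 := by
  have e1 := h.card_mul_K hu nu v
  rw [Finset.sum_eq_single (1 : G) (fun m hm m1 => if_neg ?_)
    fun k => (k (mem_fs.2 (one_mem _))).elim, one_mul] at e1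
  · refine mul_left_cancel₀ (card_ne_zero_C (Od 𝐂[u])) ?_
    rw [mul_left_comm, e1]
    split_ifs with h0
    · obtain ⟨g, hg⟩ := h0
      obtain ⟨k, hk, e⟩ := h.fusN hu nu hv hg
      rw [← sum_fs_mul_right hk, ← sum_fs_subset (A := ((𝐂[u] ⊓ 𝐍(S) : Subgroup G) : Set G))
        (inf_le_right (a := 𝐂[u])), sum_fs_congr (g := fun _ => 1), sum_fs_const, nsmul_eq_mul,
        mul_one, ← Nat.cast_mul 𝐨(S), ← h.card_D hu nu, ← card_conj 𝐂[v] g, ← cent1_conj, hg,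
        ← H1.card_mul_relIndex (Od_normal 𝐂[u]).1, h.index16 hu nu]
      · push_cast; ring
      · intro x hx
        rw [if_pos]
        rw [← mem_cent1_iff_conj.1 hx.1]
        conv_rhs => rw [← e]
        group
      · intro x hx hx'
        refine if_neg fun e' => hx' ⟨mem_cent1_iff_conj.2 ?_, hx⟩
        conv_lhs => rw [← e]
        rw [← e']
        group
    · rw [Finset.sum_eq_zero fun g _ => if_neg fun e => h0 ⟨g, e⟩]
      simp
  · rintro ⟨g, hg⟩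
    have hm' : m ∈ Od 𝐂[u] := mem_fs.1 hm
    have hc : Commute m u := (mem_cent1.1 ((Od_normal _).1 hm')).symm
    have e2 : (m * u) ^ 2 ^ 6 = 1 := by
      rw [← hg, conj_pow, h.pow64 hv]
      simp
    rw [hc.mul_pow, h.pow64 hu, mul_one] at e2
    exact m1 (orderOf_eq_one_iff.1 (Nat.eq_one_of_dvd_coprimes (h.cop 𝐂[u])
      ((Od 𝐂[u]).orderOf_dvd_natCard hm') (orderOf_dvd_of_pow_eq_one e2)))

theorem gram {α : G → ℂ} (hα : ∀ a ∈ A, α a = 0) (β : G → ℂ) :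
    (𝐨((𝐍(S) ⊓ 𝐂(A) : Subgroup G)) : ℂ) * ∑ χ ∈ B0 2 ⊤, ip S χ α * ip S β χ =
      ∑ g ∈ fs (𝐍(S) : Set G), ip S β (cfConj g α) := by
  classical
  have key : ∀ v ∈ (S : Set G), (𝐨((𝐍(S) ⊓ 𝐂(A) : Subgroup G)) : ℂ) *
      ∑ χ ∈ B0 2 ⊤, ip S χ α * conj (χ v) =
      ∑ g ∈ fs (𝐍(S) : Set G), conj (cfConj g α v) := fun v hv => by
    rw [P7.R2.theta, mul_left_comm, Finset.mul_sum, sum_fs_congr (g := fun u => 𝐨(S) *
      ∑ g ∈ fs (𝐍(S) : Set G), if g * v * g⁻¹ = u then conj (α u) else 0) fun u hu => ?_,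
      ← Finset.mul_sum, ← mul_assoc, inv_mul_cancel₀ (card_ne_zero_C S), one_mul, Finset.sum_comm,
      ← sum_fs_inv]
    · refine sum_fs_congr fun g hg => ?_
      rw [Finset.sum_ite_eq, if_pos (mem_fs.2 (cjm (inv_mem hg) hv)), inv_inv, cfConj_apply]
    · by_cases nu : u ∈ A
      · simp [hα u nu]
      · rw [mul_left_comm, h.K_S hu nu hv, mul_left_comm, Finset.mul_sum]
        simp only [mul_ite, mul_one, mul_zero]
  have e : ∑ χ ∈ B0 2 ⊤, ip S χ α * ip S β χ = (𝐨(S) : ℂ)⁻¹ *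
      ∑ v ∈ fs (S : Set G), β v * ∑ χ ∈ B0 2 ⊤, ip S χ α * conj (χ v) := by
    simp only [ip_def S β, Finset.mul_sum]
    rw [Finset.sum_comm]
    exact Finset.sum_congr rfl fun _ _ => Finset.sum_congr rfl fun _ _ => by ring
  rw [e, mul_left_comm, Finset.mul_sum, sum_fs_congr fun v hv => by
    rw [mul_left_comm, key v hv, Finset.mul_sum], Finset.sum_comm, Finset.mul_sum]
  rfl

theorem sum_lin {u : G} (nu : u ∉ A) : ∑ μ ∈ irrKer S A, μ u = 0 := by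
  classical
  have e : ∑ a ∈ fs (A : Set G), ∑ ψ ∈ Irr S, ψ 1 * ψ (a * u) = 0 :=
    Finset.sum_eq_zero fun a ha => by
      rw [sum_irr_one_mul, if_neg fun k : a * u = 1 => nu ((mul_mem_cancel_left (H := A)
        (mem_fs.1 ha)).1 (k ▸ one_mem A))]
  rw [Finset.sum_comm, Finset.sum_congr rfl fun ψ hψ => by
    rw [← Finset.mul_sum, sum_coset h.nA hψ u, mul_ite, mul_zero], ← Finset.sum_filter] at e
  refine mul_left_cancel₀ (card_ne_zero_C A) ?_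
  rw [mul_zero, ← e, Finset.mul_sum]
  exact Finset.sum_congr rfl fun μ hμ => by rw [(h.lin hμ).2.1, one_mul]

theorem val_off {χ : G → ℂ} (hχ : χ ∈ Irr ⊤) {e : ℂ}
    (he : ∀ μ ∈ (irrKer S A).erase (cf1 S), ip S χ (cf1 S) - ip S χ μ = e) {u : G} (hu : u ∈ S)
    (nu : u ∉ A) : χ u = e := by
  have e1 := H7.Two.sum_coset_eq h.nA hχ hu
  have e2 := h.sum_lin nu
  rw [← Finset.add_sum_erase _ _ (cf1_mem_irrKer h.le), cf1_of_mem hu] at e1 e2
  rw [sum_fs_congr (g := fun _ => χ u) fun a ha => by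
      obtain ⟨w, -, ew⟩ := h.exists_cj_eq hu nu ha
      rw [← ew, CF_conj (irr_mem_CF hχ) (mem_top w)], sum_fs_const, nsmul_eq_mul,
    mul_right_inj' (card_ne_zero_C A), Finset.sum_congr rfl
      (g := fun μ => (ip S χ (cf1 S) - e) * μ u) fun μ hμ => by rw [← he μ hμ]; ring,
    ← Finset.mul_sum] at e1
  linear_combination e1 + (ip S χ (cf1 S) - e) * e2

theorem val_on {χ : G → ℂ} (hχ : χ ∈ Irr ⊤) {e α : ℤ} (he : ∀ u ∈ S, u ∉ A → e * χ u = 1) {t : G}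
    (ht : t ∈ A) (t1 : t ≠ 1) (hα : e * χ t = α) :
    64 ∣ e * dg χ + 3 * α - 4 ∧ 16 ∣ e * dg χ - α := by
  classical
  have key : ∀ ψ ∈ Irr S, (64 : ℂ) * e * mult S χ ψ = conj (∑ x ∈ fs (S : Set G), ψ (x * 1)) +
      (α - 1) * conj (∑ x ∈ fs (A : Set G), ψ (x * 1)) + (e * dg χ - α) * dg ψ := fun ψ hψ => by
    have e1 : ∀ x ∈ (S : Set G), e * (χ x * conj (ψ x)) = conj (ψ x) +
        (if x ∈ A then (α - 1) * conj (ψ x) else 0) +
        if x = 1 then (e * dg χ - α) * conj (ψ x) else 0 := fun x hx => by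
      rcases eq_or_ne x 1 with rfl | x1
      · rw [if_pos (one_mem A), if_pos rfl, irr_one_eq hχ]; ring
      by_cases k : x ∈ A
      · obtain ⟨g, -, eg⟩ := h.exA ht t1 k x1
        rw [if_pos k, if_neg x1, ← mul_assoc, ← eg, CF_conj (irr_mem_CF hχ) (mem_top g), hα]; ring
      · rw [if_neg k, if_neg x1, ← mul_assoc, he x hx k]; ring
    have e2 : ∑ x ∈ fs (A : Set G), (α - 1 : ℂ) * conj (ψ x) =
        ∑ x ∈ fs (S : Set G), if x ∈ A then (α - 1) * conj (ψ x) else 0 := by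
      exact (sum_fs_congr fun x k => (if_pos k).symm).trans
        (sum_fs_subset (A := (A : Set G)) h.le fun x _ k => if_neg k)
    simp only [mul_one, map_sum]
    rw [← ip_eq_mult hχ hψ, ip_def, h.card, Finset.mul_sum (a := (α - 1 : ℂ)), e2,
      show (64 : ℂ) * e * (((64 : ℕ) : ℂ)⁻¹ * ∑ x ∈ fs (S : Set G), χ x * conj (ψ x)) =
        e * ∑ x ∈ fs (S : Set G), χ x * conj (ψ x) by push_cast; ring, Finset.mul_sum,
      sum_fs_congr e1, Finset.sum_add_distrib, Finset.sum_add_distrib, Finset.sum_ite_eq',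
      if_pos (mem_fs.2 (one_mem S)), irr_one_eq hψ, map_natCast]
  constructor
  · have e0 := key _ (cf1_mem_Irr S)
    rw [sum_coset h.nA (cf1_mem_Irr S), sum_coset ⟨le_rfl, le_normalizer⟩ (cf1_mem_Irr S),
      if_pos (le_cfKer_cf1 S), if_pos (h.le.trans (le_cfKer_cf1 S)), h.card, h.cardA,
      cf1_of_mem (one_mem S), (isLin_cf1 S).dg] at e0
    refine ⟨e * mult S χ (cf1 S) - 1, Int.cast_injective (α := ℂ) ?_⟩
    simp only [map_mul, map_natCast, map_one] at e0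
    push_cast at e0 ⊢
    linear_combination -e0
  · obtain ⟨ψ, hψ, n⟩ := exists_irrKer_notMem_cfKer (K := S) (N := ⊥) ⟨bot_le, le_normalizer_of_normal⟩ (x := t) t1
    replace hψ := (mem_irrKer.1 hψ).1
    have e1 := key _ hψ
    rw [sum_coset h.nA hψ, sum_coset ⟨le_rfl, le_normalizer⟩ hψ, if_neg fun k => n (k (h.le ht)),
      if_neg fun k => n (k ht), map_zero, mul_zero, add_zero, zero_add] at e1
    have e2 : 64 * (e * mult S χ ψ) = (e * dg χ - α) * dg ψ := by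
      rw [← mul_assoc]; exact_mod_cast e1
    have d1 := irr_dg_dvd_card hψ
    have d2 := irr_dg_sq_le h.le hψ (by rw [comm_eq_bot_iff.2 h.cen]; exact bot_le)
    have d3 := H1.card_mul_relIndex h.le
    rw [h.card] at d1 d3
    rw [h.cardA] at d3
    have d4 : dg ψ ≤ 4 := by nlinarith
    generalize dg ψ = m at e2 d1 d4
    generalize e * mult S χ ψ = y at e2
    generalize e * dg χ = z at e2
    interval_cases m <;> omega

theorem false [IsSimpleGroup G] (hna : ¬ IsMulCommutative G) : False := by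
  classical
  obtain ⟨t, ht, t1, -⟩ := h.f4.exists_ne 1
  have it : Inv t := ⟨t1, h.sqA ht⟩
  obtain ⟨Λ, hΛ⟩ : ∃ Λ, Λ = (irrKer S A).erase (cf1 S) := ⟨_, rfl⟩
  have mΛ : ∀ {μ}, μ ∈ Λ ↔ μ ≠ cf1 S ∧ μ ∈ irrKer S A := by rw [hΛ]; exact Finset.mem_erase
  have iΛ : ∀ {μ}, μ ∈ Λ → μ ∈ Irr S := fun k => (mem_irrKer.1 (mΛ.1 k).2).1
  have cΛ : 13 ≤ Λ.card := by
    have d3 := H1.card_mul_relIndex h.le
    rw [h.card, h.cardA] at d3
    rw [hΛ, Finset.card_erase_of_mem (cf1_mem_irrKer h.le), card_irrKer_of_der_le h.der h.le]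
    omega
  obtain ⟨l, lΛ⟩ := Finset.card_pos.1 (show 0 < Λ.card by omega)
  obtain ⟨d, hd⟩ : ∃ d : (G → ℂ) → (G → ℂ) → ℤ,
    ∀ μ χ, d μ χ = (mult S χ (cf1 S) : ℤ) - mult S χ μ := ⟨_, fun _ _ => rfl⟩
  have hdi : ∀ χ ∈ B0 2 ⊤, ∀ μ ∈ Λ, ip S χ (cf1 S - μ) = d μ χ := fun χ hχ μ hμ => by
    rw [ip_sub_right, ip_eq_mult (B0_subset _ _ hχ) (iΛ hμ),
      ip_eq_mult (B0_subset _ _ hχ) (cf1_mem_Irr S), hd]
    push_cast
    rfl
  have hip : ∀ a ∈ Λ, ∀ b ∈ Λ, ip S (cf1 S - a) (cf1 S - b) = 1 + if a = b then 1 else 0 :=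
    fun a ha b hb => by
      rw [ip_sub_left, ip_sub_right, ip_sub_right, ip_irr (iΛ ha) (iΛ hb),
        ip_irr_of_ne (iΛ ha) (cf1_mem_Irr S) (mΛ.1 ha).1,
        ip_irr_of_ne (cf1_mem_Irr S) (iΛ hb) (mΛ.1 hb).1.symm, ip_irr_self (cf1_mem_Irr S)]
      ring
  have hd1 : ∀ μ ∈ Λ, d μ (cf1 ⊤) = 1 := fun μ hμ => Int.cast_injective (α := ℂ) (by
    rw [← hdi _ (cf1_mem_B0 _ _) μ hμ, ← ip_res_left, res_cf1 le_top, ip_sub_right,
      ip_irr_self (cf1_mem_Irr S), ip_irr_of_ne (cf1_mem_Irr S) (iΛ hμ) (mΛ.1 hμ).1.symm]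
    simp)
  have hc3 : ∀ μ ∈ Λ, (cfClass 𝐍(S) μ).card = 3 := fun μ hμ => by
    rw [card_cfClass, ← inf_relIndex_left, h.inertia_eq (mΛ.1 hμ).2 (mΛ.1 hμ).1, inf_relIndex_left,
      h.three]
  have hcΛ : ∀ μ ∈ Λ, ∀ ν ∈ cfClass 𝐍(S) μ, ν ∈ Λ := fun μ hμ ν hν =>
    mΛ.2 ⟨fun e => (mΛ.1 hμ).1 (by
      obtain ⟨g, hg, e'⟩ := mem_cfClass.1 (mem_cfClass_comm.1 hν)
      rw [← e', e, cfConj_cf1_of_norm hg]), by
      obtain ⟨g, hg, rfl⟩ := mem_cfClass.1 hν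
      exact cfConj_mem_irrKer (mΛ.1 hμ).2 hg (h.norm_le hg)⟩
  have hv : ∀ μ ∈ Λ, ∀ a ∈ A, (cf1 S - μ) a = 0 := fun μ hμ a ha => by
    rw [Pi.sub_apply, h.ker (mΛ.1 hμ).2 ha, cf1_of_mem (h.le ha), sub_self]
  have gr : ∀ μ ∈ Λ, ∀ ν ∈ Λ, ∑ b ∈ (B0 2 ⊤).erase (cf1 ⊤), d μ b * d ν b =
      2 + if ν ∈ cfClass 𝐍(S) μ then 1 else 0 := fun μ hμ ν hν => by
    have e := h.gram (hv μ hμ) (cf1 S - ν)
    rw [Finset.sum_congr rfl fun χ hχ => by rw [hdi χ hχ μ hμ, ip_comm_of_int (hdi χ hχ ν hν)],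
      sum_fs_congr fun g hg => by rw [map_sub, cfConj_cf1_of_norm hg],
      sum_fs_cfConj 𝐍(S) μ fun ψ => ip S (cf1 S - ν) (cf1 S - ψ),
      h.inertia_eq (mΛ.1 hμ).2 (mΛ.1 hμ).1, nsmul_eq_mul, mul_right_inj' (card_ne_zero_C _),
      Finset.sum_congr rfl fun ψ hψ => hip ν hν ψ (hcΛ μ hμ ψ hψ), Finset.sum_add_distrib,
      Finset.sum_ite_eq, Finset.sum_const, hc3 μ hμ,
      ← Finset.add_sum_erase _ _ (cf1_mem_B0 2 ⊤), hd1 μ hμ, hd1 ν hν] at e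
    refine Int.cast_injective (α := ℂ) ?_
    push_cast at e ⊢
    linear_combination e
  obtain ⟨a, ha, b, hb, c, hc, ea, eb, ec, hab, hsum⟩ := P7.R2.comb
    (r := fun μ ν => ν ∈ cfClass 𝐍(S) μ) lΛ gr (fun μ _ => self_mem_cfClass _ μ)
    (fun μ hμ => hc3 μ hμ ▸ Finset.card_le_card fun ν hν => (Finset.mem_filter.1 hν).2) cΛ
  have hI : ∀ {χ}, χ ∈ (B0 2 (⊤ : Subgroup G)).erase (cf1 ⊤) → χ ∈ Irr ⊤ := fun k =>
    B0_subset _ _ (Finset.mem_of_mem_erase k)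
  have van : ∀ y s : G, s * s = 1 → s * y * s⁻¹ = y⁻¹ →
      1 + (d l a * a y + d l b * b y + d l c * c y) = 0 := fun y s ss hs => by
    have e := P7.R2.theta S (cf1 S - l) y⁻¹
    rw [Finset.sum_eq_zero (s := fs _) fun u hu => ?_, mul_zero, Finset.sum_congr rfl fun χ hχ => by
      rw [hdi χ hχ l lΛ, ← (irr_isChar (B0_subset _ _ hχ)).apply_inv, inv_inv],
      ← Finset.add_sum_erase _ _ (cf1_mem_B0 2 ⊤), hd1 l lΛ, hsum fun χ => χ y] at e
    · simpa only [cf1_top_apply, Int.cast_one, mul_one] using e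
    · by_cases k : u ∈ A
      · rw [hv l lΛ u k, map_zero, zero_mul]
      · rw [h.K_real (mem_fs.1 hu) k ss (by rw [← conj_inv, hs]), mul_zero]
  have int : ∀ χ, ∃ n : ℤ, χ ∈ (B0 2 (⊤ : Subgroup G)).erase (cf1 ⊤) → χ t = n := fun χ => by
    by_cases k : χ ∈ (B0 2 (⊤ : Subgroup G)).erase (cf1 ⊤)
    · exact (P18.U.int_val (g := 1) (by rw [pow_two, pow_mul, pow_two t, it.sq, one_pow])
        (by rw [it.inv_eq]; simp) (hI k)).imp fun _ e _ => e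
    · exact ⟨0, fun k' => (k k').elim⟩
  choose τ hτ using int
  have val : ∀ χ ∈ (B0 2 (⊤ : Subgroup G)).erase (cf1 ⊤), d l χ * d l χ = 1 →
      (∀ μ ∈ Λ, d μ χ = d l χ) → (64 ∣ d l χ * dg χ + 3 * (d l χ * τ χ) - 4 ∧
        16 ∣ d l χ * dg χ - d l χ * τ χ) ∧ d l χ * dg χ ≠ 1 := fun χ hχ e1 e2 => by
    refine ⟨h.val_on (hI hχ) (fun u hu nu => ?_) ht t1 (by rw [hτ χ hχ]; push_cast; rfl),
      fun e => ?_⟩
    · rw [h.val_off (hI hχ) (e := d l χ) (fun μ hμ => by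
        rw [← ip_sub_right, hdi χ (Finset.mem_of_mem_erase hχ) μ (hΛ ▸ hμ), e2 μ (hΛ ▸ hμ)]) hu nu]
      exact_mod_cast e1
    · have e4 : dg χ = 1 := by
        exact_mod_cast Int.eq_one_of_mul_eq_one_left (Nat.cast_nonneg _) e
      refine (Finset.mem_erase.1 hχ).1 ((irr_eq_cf1_iff (hI hχ)).2 (le_trans ?_
        ((irr_isChar (hI hχ)).isLin_of_dg e4).der_le_cfKer))
      exact ((IsSimpleGroup.eq_bot_or_eq_top_of_normal _ inferInstance).resolve_left fun k =>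
        hna ⟨⟨fun a b => congrArg Subtype.val ((isMulComm_iff_comm_eq_bot.2 k).is_comm.comm
          ⟨a, mem_top a⟩ ⟨b, mem_top b⟩)⟩⟩).ge
  obtain ⟨⟨a1, a2⟩, a3⟩ := val a ha ea fun μ hμ => (hab μ hμ).1
  obtain ⟨⟨b1, b2⟩, b3⟩ := val b hb eb fun μ hμ => (hab μ hμ).2
  refine ly_num (γ := d l c * τ c) (c := d l c * dg c) a1 a2 a3 b1 b2 b3
    (mul_ne_zero (left_ne_zero_of_mul_eq_one ec) (Nat.cast_ne_zero.2 (irr_dg_pos (hI hc)).ne'))
    (Int.cast_injective (α := ℂ) ?_) (Int.cast_injective (α := ℂ) ?_) ?_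
    (mul_left_cancel₀ (card_ne_zero_C (⊤ : Subgroup G)) ?_)
  · have := van t 1 (mul_one 1) (by rw [it.inv_eq]; simp)
    rw [hτ a ha, hτ b hb, hτ c hc] at this
    push_cast
    exact this
  · have := van 1 1 (mul_one 1) (by simp)
    rw [irr_one_eq (hI ha), irr_one_eq (hI hb), irr_one_eq (hI hc)] at this
    push_cast
    exact this
  · have e1 := P18.U.Sec.sum_le (v := t) (N := Od 𝐂[t]) ⟨t1, by
      rw [pow_two, pow_mul, pow_two t, it.sq, one_pow], Od_normal _,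
      Nat.coprime_two_right.2 (odd_Od _)⟩
    rw [h.index64 ht t1, ← Finset.add_sum_erase _ _ (cf1_mem_B0 2 ⊤), cf1_top_apply,
      Finset.sum_congr rfl (g := fun χ => ((τ χ ^ 2 : ℤ) : ℝ)) fun χ hχ => by
        rw [hτ χ hχ, Complex.norm_intCast, sq_abs, Int.cast_pow], ← Int.cast_sum] at e1
    have e2 : ∑ χ ∈ (B0 2 ⊤).erase (cf1 ⊤), τ χ ^ 2 ≤ 63 := by
      refine Int.cast_le (R := ℝ).1 ?_
      norm_num at e1 ⊢
      linarith
    have e3 : ∑ χ ∈ (B0 2 ⊤).erase (cf1 ⊤), d l χ * (d l χ * τ χ ^ 2) =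
        (d l a * τ a) ^ 2 + (d l b * τ b) ^ 2 + (d l c * τ c) ^ 2 :=
      Int.cast_injective (α := ℂ) (by
        push_cast
        rw [hsum fun χ => d l χ * τ χ ^ 2]
        ring)
    refine e3 ▸ le_trans (Finset.sum_le_sum fun χ hχ => ?_) e2
    have e4 := Finset.single_le_sum (f := fun b => d l b * d l b) (fun _ _ => mul_self_nonneg _) hχ
    rw [gr l lΛ l lΛ, if_pos (self_mem_cfClass _ l)] at e4
    have e5 : d l χ * d l χ ≤ 1 := by
      have : -2 < d l χ ∧ d l χ < 2 := by constructor <;> nlinarith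
      nlinarith
    nlinarith [sq_nonneg (τ χ)]
  · have e2 : ∑ g ∈ fs ((⊤ : Subgroup G) : Set G), (1 + (d l a * a (g * t * g⁻¹ * t) +
        d l b * b (g * t * g⁻¹ * t) + d l c * c (g * t * g⁻¹ * t))) = 0 :=
      Finset.sum_eq_zero fun g _ => van _ t it.sq (by
        rw [mul_inv_rev, conj_inv, it.inv_eq, ← mul_assoc, it.mul_cancel_right])
    rw [Finset.sum_add_distrib, Finset.sum_add_distrib, Finset.sum_add_distrib,
      P7.R2.sum_pair (hI ha) ea, P7.R2.sum_pair (hI hb) eb, P7.R2.sum_pair (hI hc) ec,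
      hτ a ha, hτ b hb, hτ c hc, sum_fs_const] at e2
    rw [mul_zero, ← e2]
    push_cast
    ring

end LH

/-- The Sylow 2-subgroup is not of type `U₃(4)`. -/
theorem lyStmt : LyStmt.{u} := by
  intro G _ _ _ hna nc n8 S hS hc
  by_contra na
  have cm : ∀ {a b : G}, a ∈ S → b ∈ S → b * b = 1 → a * b = b * a := fun {a b} ha hb e => by
    rcases eq_or_ne b 1 with rfl | b1
    · simp
    · exact mem_centralizer_iff.1 (hc b hb ⟨b1, e⟩) a ha
  let A : Subgroup G :=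
    { carrier := {x | x ∈ S ∧ x * x = 1}
      one_mem' := ⟨one_mem S, mul_one 1⟩
      mul_mem' := fun {a b} ha hb => ⟨mul_mem ha.1 hb.1, by
        rw [mul_assoc, ← mul_assoc b, ← cm ha.1 hb.1 hb.2, mul_assoc, hb.2, mul_one, ha.2]⟩
      inv_mem' := fun {a} ha => ⟨inv_mem ha.1, by rw [← mul_inv_rev, ha.2, inv_one]⟩ }
  have hA : ∀ x, x ∈ A ↔ x ∈ S ∧ x * x = 1 := fun _ => Iff.rfl
  have hSA : S ≤ 𝐂(A) := fun x hx => mem_centralizer_iff.2 fun a ha => (cm hx ha.1 ha.2).symm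
  clear_value A
  by_cases k : 𝐍(S) ≤ 𝐂(A)
  · obtain ⟨c, hcS, ic⟩ := P7.exists_inv_of_two hS.pgrp fun e => na (e ▸ inferInstance)
    have hc' := (hA c).2 ⟨hcS, ic.sq⟩
    obtain ⟨P, rfl⟩ := hS.exists_sylow_top Nat.prime_two
    have z := P1.zstar_sylow P ic.orderOf_eq hcS fun g hg => by
      obtain ⟨n, hn, e⟩ := P18.U.cent_fusion hS (hSA.trans (cent_le_cent1 hc')) (mem_top g)
        (hSA.trans (cent_le_cent1 ((hA _).2 ⟨hg, (ic.conj g).sq⟩)))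
      exact e.symm.trans (mem_cent1_iff_conj.1 (cent_le_cent1 hc' (k hn.2)))
    have o : pPrimeCore 2 G = ⊥ := (IsSimpleGroup.eq_bot_or_eq_top_of_normal _
      inferInstance).resolve_right fun e => ic.ne (P5.eq_one_of_odd
        (Nat.coprime_two_right.1 (L.coprime_card_pPrimeCore 2)) (e ▸ mem_top c) ic.sq)
    have hz : center G = ⊤ := (IsSimpleGroup.eq_bot_or_eq_top_of_normal _
      inferInstance).resolve_left fun e => ic.ne (mem_bot.1 (e ▸ mem_center_iff.2 fun g =>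
        (commutatorElement_eq_one_iff_mul_comm.1 (mem_bot.1 (o ▸ z g))).symm))
    exact hna ⟨⟨fun a b => mem_center_iff.1 (hz.ge (mem_top b)) a⟩⟩
  obtain ⟨g, hg, ng⟩ := SetLike.not_le_iff_exists.1 k
  have h4 : 𝐨(A) = 4 := by
    obtain ⟨n, hn⟩ := elemAb_exists_isElem Nat.prime_two (A := A) ⟨isMulComm_iff_le_cent.2
      (le_trans (fun x hx => ((hA x).1 hx).1) hSA), fun a ha => by rw [pow_two]; exact ((hA a).1 ha).2⟩
    have n3 : n < 3 := not_le.1 fun k =>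
      let ⟨E, _, e⟩ := hn.exists_le Nat.prime_two k
      n8 ⟨E, le_top, e⟩
    obtain ⟨a, ha, e⟩ : ∃ a ∈ A, g * a * g⁻¹ ≠ a := by
      by_contra! k'
      exact ng (mem_centralizer_iff.2 fun a ha => (mul_inv_eq_iff_eq_mul.1 (k' a ha)).symm)
    have a1 : a ≠ 1 := fun k' => e (by simp [k'])
    have := Set.ncard_le_ncard (s := {1, a, g * a * g⁻¹}) (t := (A : Set G)) (by
      rintro _ (rfl | rfl | rfl)
      exacts [one_mem A, ha, (hA _).2 ⟨cjm hg ((hA a).1 ha).1, sq_cj ((hA a).1 ha).2 g⟩])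
    rw [Set.ncard_eq_three.2 ⟨_, _, _, a1.symm, fun k' => a1 (by simpa using k'.symm), e.symm, rfl⟩,
      show (A : Set G).ncard = 2 ^ n from hn.card] at this
    rw [hn.card]
    interval_cases n <;> omega
  exact LH.false ⟨P18.U.us_of hS hA hSA h4 na k, nc, g, hg, ng⟩ hna

end Cfsg.Agent.P29
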